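import Mathlib.RingTheory.Support
import Mathlib.RingTheory.LocalRing.Module
import Mathlib.LinearAlgebra.FiniteDimensional.Lemmas
import Mathlib.LinearAlgebra.TensorProduct.RightExactness
import Mathlib.RingTheory.LocalRing.ResidueField.Fiber
import Mathlib.Algebra.Module.Projective
import Mathlib.Algebra.DirectSum.Module
import Mathlib.Algebra.BigOperators.Finprod
import Mathlib.Order.SetNotation

/-!
# Splitting filtrations by fibre dimensions
-/

set_option autoImplicit false

universe u v w

open scoped TensorProduct DirectSum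

namespace Groth.L12.FiltSplit

section Dim

variable {Γ : Type w} [LinearOrder Γ] {k : Type u} [Field k] {V : Type v} [AddCommGroup V] [Module k V]
  [FiniteDimensional k V]

/-- The jump of a filtration. -/
noncomputable def jump (Fx : Γ → Submodule k V) (γ : Γ) : ℕ :=
  Module.finrank k ↥(Fx γ) - Module.finrank k ↥(⨆ η ∈ Set.Ioi γ, Fx η)

omit [FiniteDimensional k V] in
lemma sup_gt_le {Fx : Γ → Submodule k V} (hF : Antitone Fx) (γ : Γ) : (⨆ η ∈ Set.Ioi γ, Fx η) ≤ Fx γ :=
  iSup₂_le fun _ h => hF (le_of_lt h)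

theorem sum_jump_le (Fx : Γ → Submodule k V) (hF : Antitone Fx) (W : Submodule k V)
    (hW : ∀ γ, Fx γ ≤ W ⊔ ⨆ η ∈ Set.Ioi γ, Fx η) (S : Finset Γ) :
    ∑ γ ∈ S, jump Fx γ ≤ Module.finrank k ↥W := by
  have key : ∀ γ, jump Fx γ + Module.finrank k ↥(W ⊓ ⨆ η ∈ Set.Ioi γ, Fx η) =
      Module.finrank k ↥(W ⊓ Fx γ) := fun γ => by
    have hle := sup_gt_le hF γ
    set Z := ⨆ η ∈ Set.Ioi γ, Fx η with hZ
    have h1 : (W ⊓ Fx γ) ⊔ Z = Fx γ := le_antisymm (sup_le inf_le_right hle) fun x hx => by
      obtain ⟨a, ha, b, hb, rfl⟩ := Submodule.mem_sup.1 (hW γ hx)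
      have : a ∈ Fx γ := by
        have h2 := sub_mem hx (hle hb)
        rwa [add_sub_cancel_right] at h2
      exact Submodule.mem_sup.2 ⟨a, ⟨ha, this⟩, b, hb, rfl⟩
    have h2 : (W ⊓ Fx γ) ⊓ Z = W ⊓ Z := by
      rw [inf_assoc, inf_eq_right.2 hle]
    have h3 := Submodule.finrank_sup_add_finrank_inf_eq (W ⊓ Fx γ) Z
    rw [h1, h2] at h3
    have h4 := Submodule.finrank_mono hle
    unfold jump
    rw [← hZ]
    omega
  suffices H : ∀ S : Finset Γ, ∀ δ, (∀ γ ∈ S, δ ≤ γ) →
      ∑ γ ∈ S, jump Fx γ ≤ Module.finrank k ↥(W ⊓ Fx δ) by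
    rcases S.eq_empty_or_nonempty with rfl | hne
    · simp
    · exact (H S (S.min' hne) fun γ hγ => S.min'_le γ hγ).trans (Submodule.finrank_mono inf_le_left)
  intro S
  induction S using Finset.induction_on_min with
  | empty => intro δ _; simp
  | insert γ S hlt ih =>
    intro δ hδ
    rw [Finset.sum_insert fun h => lt_irrefl γ (hlt γ h)]
    refine le_trans ?_ (Submodule.finrank_mono (inf_le_inf_left W (hF (hδ γ (Finset.mem_insert_self γ S)))))
    rw [← key γ]
    refine Nat.add_le_add_left ?_ _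
    rcases S.eq_empty_or_nonempty with rfl | hne
    · simp
    · refine (ih (S.min' hne) fun x hx => S.min'_le x hx).trans (Submodule.finrank_mono (inf_le_inf_left W ?_))
      exact le_biSup Fx (Set.mem_Ioi.2 (hlt _ (S.min'_mem hne)))

theorem eq_top_of_jumps (Fx : Γ → Submodule k V) (hF : Antitone Fx) (W : Submodule k V)
    (hW : ∀ γ, Fx γ ≤ W ⊔ ⨆ η ∈ Set.Ioi γ, Fx η)
    (hsum : Module.finrank k V = ∑ᶠ γ, jump Fx γ) : W = ⊤ := by
  refine Submodule.eq_top_of_finrank_eq (le_antisymm (Submodule.finrank_le W) ?_)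
  rw [hsum]
  by_cases h : (Function.support (jump Fx)).Finite
  · rw [finsum_eq_sum _ h]
    exact sum_jump_le Fx hF W hW _
  · rw [finsum_of_infinite_support h]
    exact Nat.zero_le _

end Dim

section BC

variable {R : Type u} [CommRing R] {M : Type v} [AddCommGroup M] [Module R M] (K : Type u) [CommRing K] [Algebra R K]

/-- The image of a submodule after base change. -/
noncomputable abbrev img (N : Submodule R M) : Submodule K (K ⊗[R] M) :=
  LinearMap.range (N.subtype.baseChange K)

theorem tmul_mem_img {N : Submodule R M} {x : M} (hx : x ∈ N) (c : K) : c ⊗ₜ[R] x ∈ img K N :=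
  ⟨c ⊗ₜ[R] ⟨x, hx⟩, rfl⟩

theorem img_le {N : Submodule R M} {P : Submodule K (K ⊗[R] M)} (h : ∀ x ∈ N, (1 : K) ⊗ₜ[R] x ∈ P) :
    img K N ≤ P := by
  rintro _ ⟨z, rfl⟩
  induction z using TensorProduct.induction_on with
  | zero => simp
  | tmul c x =>
    have := P.smul_mem c (h x x.2)
    rwa [TensorProduct.smul_tmul', smul_eq_mul, mul_one] at this
  | add a b ha hb => rw [map_add]; exact add_mem ha hb

theorem img_mono {N N' : Submodule R M} (h : N ≤ N') : img K N ≤ img K N' :=
  img_le K fun _ hx => tmul_mem_img K (h hx) 1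

theorem img_biSup {ι : Type w} (s : Set ι) (N : ι → Submodule R M) :
    img K (⨆ i ∈ s, N i) = ⨆ i ∈ s, img K (N i) := by
  refine le_antisymm (img_le K fun x hx => ?_) (iSup₂_le fun i hi => img_mono K (le_biSup N hi))
  let f : M →ₗ[R] K ⊗[R] M := (TensorProduct.mk R K M) 1
  have : (⨆ i ∈ s, N i) ≤ ((⨆ i ∈ s, img K (N i)).restrictScalars R).comap f :=
    iSup₂_le fun i hi y hy => le_biSup (fun i => img K (N i)) hi (tmul_mem_img K hy 1)
  exact this hx

theorem img_top : img K (⊤ : Submodule R M) = ⊤ := by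
  rw [LinearMap.range_eq_top]
  exact (LinearMap.lTensor_surjective K (g := (⊤ : Submodule R M).subtype) fun x => ⟨⟨x, trivial⟩, rfl⟩)

end BC

/-- A submodule whose image generates every fibre of a finite module is everything. -/
theorem eq_top_of_fibres {R : Type u} [CommRing R] {M : Type v} [AddCommGroup M] [Module R M]
    [Module.Finite R M] (N : Submodule R M)
    (h : ∀ p : PrimeSpectrum R, img p.asIdeal.ResidueField N = ⊤) : N = ⊤ := by
  suffices hs : Module.support R (M ⧸ N) = ∅ by
    exact Submodule.Quotient.subsingleton_iff.1 (Module.support_eq_empty_iff.1 hs)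
  refine Set.eq_empty_of_forall_notMem fun p hp => ?_
  rw [Module.mem_support_iff_nontrivial_residueField_tensorProduct] at hp
  refine (not_subsingleton_iff_nontrivial.2 hp) ?_
  have hz : ∀ z : p.asIdeal.ResidueField ⊗[R] (M ⧸ N), z = 0 := fun z => by
    obtain ⟨y, rfl⟩ := LinearMap.lTensor_surjective p.asIdeal.ResidueField N.mkQ_surjective z
    have hy : y ∈ img p.asIdeal.ResidueField N := by rw [h p]; trivial
    obtain ⟨w, rfl⟩ := hy
    change ((N.mkQ).baseChange p.asIdeal.ResidueField) (N.subtype.baseChange p.asIdeal.ResidueField w) = 0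
    rw [← LinearMap.comp_apply, ← LinearMap.baseChange_comp,
      show N.mkQ ∘ₗ N.subtype = 0 from LinearMap.ext fun x => (Submodule.Quotient.mk_eq_zero N).2 x.2,
      LinearMap.baseChange_zero, LinearMap.zero_apply]
  exact subsingleton_of_forall_eq 0 hz

variable {Γ : Type w} [LinearOrder Γ] {R : Type u} [CommRing R] {M : Type v} [AddCommGroup M] [Module R M]

theorem split_of_fibres [Module.Finite R M] (F : Γ → Submodule R M) (hF : Antitone F)
    (Fp : Γ → Submodule R M) (hFp : ∀ γ, Fp γ = ⨆ η ∈ Set.Ioi γ, F η)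
    (hgr : ∀ γ, Module.Projective R (↥(F γ) ⧸ Submodule.comap (F γ).subtype (Fp γ)))
    (hsum : ∀ p : PrimeSpectrum R, Module.finrank p.asIdeal.ResidueField (p.asIdeal.ResidueField ⊗[R] M) =
      ∑ᶠ γ, jump (fun γ => img p.asIdeal.ResidueField (F γ)) γ) :
    ∃ G : Γ → Submodule R M, DirectSum.IsInternal G ∧ ∀ γ, F γ = ⨆ η ∈ Set.Ici γ, G η := by
  classical
  have hsec : ∀ γ, ∃ s : (↥(F γ) ⧸ Submodule.comap (F γ).subtype (Fp γ)) →ₗ[R] ↥(F γ),
      (Submodule.comap (F γ).subtype (Fp γ)).mkQ ∘ₗ s = LinearMap.id := fun γ => by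
    haveI := hgr γ
    exact Module.projective_lifting_property _ LinearMap.id (Submodule.mkQ_surjective _)
  choose s hs using hsec
  let G : Γ → Submodule R M := fun γ => LinearMap.range ((F γ).subtype ∘ₗ s γ)
  have hGF : ∀ γ, G γ ≤ F γ := fun γ => by
    rintro _ ⟨z, rfl⟩
    exact (s γ z).2
  have hlow : ∀ γ, ∀ g ∈ G γ, g ∈ Fp γ → g = 0 := fun γ g hg hg' => by
    obtain ⟨z, rfl⟩ := hg
    have hz : z = 0 := by
      have h1 := LinearMap.congr_fun (hs γ) z
      rw [LinearMap.comp_apply, LinearMap.id_apply] at h1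
      rw [← h1, Submodule.mkQ_apply, Submodule.Quotient.mk_eq_zero]
      exact hg'
    simp [hz]
  have hcover : ∀ γ, F γ ≤ G γ ⊔ Fp γ := fun γ x hx => by
    let z := (Submodule.comap (F γ).subtype (Fp γ)).mkQ ⟨x, hx⟩
    have h1 : (x - ((s γ z : ↥(F γ)) : M)) ∈ Fp γ := by
      have h2 : (Submodule.comap (F γ).subtype (Fp γ)).mkQ (⟨x, hx⟩ - s γ z) = 0 := by
        rw [map_sub, show (Submodule.comap (F γ).subtype (Fp γ)).mkQ (s γ z) = z from LinearMap.congr_fun (hs γ) z,
          sub_self]
      exact ((Submodule.Quotient.mk_eq_zero _).1 h2 : _)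
    exact Submodule.mem_sup.2 ⟨_, ⟨z, rfl⟩, _, h1, add_sub_cancel _ _⟩
  -- everything is generated
  have htop : (⨆ γ, G γ) = ⊤ := eq_top_of_fibres _ fun p => by
    haveI : FiniteDimensional p.asIdeal.ResidueField (p.asIdeal.ResidueField ⊗[R] M) :=
      Module.Finite.base_change R p.asIdeal.ResidueField M
    refine eq_top_of_jumps (fun γ => img p.asIdeal.ResidueField (F γ))
      (fun a b hab => img_mono _ (hF hab)) _ (fun γ => ?_) (hsum p)
    refine img_le _ fun x hx => ?_
    obtain ⟨g, hg, y, hy, rfl⟩ := Submodule.mem_sup.1 (hcover γ hx)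
    rw [TensorProduct.tmul_add]
    refine add_mem (Submodule.mem_sup_left (tmul_mem_img _ (Submodule.mem_iSup_of_mem γ hg) 1))
      (Submodule.mem_sup_right ?_)
    rw [hFp] at hy
    rw [← img_biSup]
    exact tmul_mem_img _ hy 1
  -- the lowest component
  have hmin : ∀ (γ : Γ) (d : ⨁ η, G η), DirectSum.coeLinearMap G d ∈ F γ → ∀ η < γ, d η = 0 := by
    intro γ d hd
    by_contra hne
    push Not at hne
    obtain ⟨η₀, hη₀, hne₀⟩ := hne
    let S := (DFinsupp.support d).filter fun η => η < γ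
    have hSne : S.Nonempty := ⟨η₀, Finset.mem_filter.2 ⟨DFinsupp.mem_support_toFun d η₀ |>.2 hne₀, hη₀⟩⟩
    set μ := S.min' hSne with hμ
    obtain ⟨hμd, hμγ⟩ := Finset.mem_filter.1 (S.min'_mem hSne)
    have hrest : ∀ η ∈ (DFinsupp.support d).erase μ, ((d η : G η) : M) ∈ Fp μ := by
      intro η hη
      obtain ⟨hne1, hη1⟩ := Finset.mem_erase.1 hη
      have hlt : μ < η := by
        rcases lt_or_ge η γ with h | h
        · exact lt_of_le_of_ne (S.min'_le η (Finset.mem_filter.2 ⟨hη1, h⟩)) (Ne.symm hne1)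
        · exact lt_of_lt_of_le hμγ h
      rw [hFp]
      exact le_biSup F (Set.mem_Ioi.2 hlt) (hGF η (d η).2)
    have hsum' : DirectSum.coeLinearMap G d = ∑ η ∈ DFinsupp.support d, ((d η : G η) : M) := by
      conv_lhs => rw [← DirectSum.sum_support_of d]
      rw [map_sum]
      exact Finset.sum_congr rfl fun η _ => DirectSum.coeLinearMap_of G η _
    rw [hsum', ← Finset.add_sum_erase _ _ hμd] at hd
    have hdF : (d μ : M) + ∑ η ∈ (DFinsupp.support d).erase μ, ((d η : G η) : M) ∈ Fp μ := by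
      rw [hFp]; exact le_biSup F (Set.mem_Ioi.2 hμγ) hd
    have h0 := hlow μ (d μ) (d μ).2 ((Submodule.add_mem_iff_left _ (sum_mem hrest)).1 hdF)
    exact (DFinsupp.mem_support_toFun d μ).1 hμd (Subtype.ext h0)
  have hsurj : Function.Surjective (DirectSum.coeLinearMap G) := by
    rw [← LinearMap.range_eq_top, ← htop]
    exact (Submodule.iSup_eq_range_dfinsupp_lsum G).symm
  have hinj : Function.Injective (DirectSum.coeLinearMap G) := by
    refine (injective_iff_map_eq_zero _).2 fun d hd => DFinsupp.ext fun μ => ?_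
    rcases subsingleton_or_nontrivial Γ with hΓ | hΓ
    · have hz : Fp μ = ⊥ := by
        rw [hFp]
        exact le_bot_iff.1 (iSup₂_le fun η hη => absurd (Subsingleton.elim μ η) (ne_of_lt hη))
      have hd' : ((d μ : G μ) : M) = 0 := by
        rw [← hd]
        conv_rhs => rw [← DirectSum.sum_support_of d]
        rw [map_sum, Finset.sum_eq_single μ]
        · exact (DirectSum.coeLinearMap_of G μ _).symm
        · exact fun b _ hb => absurd (Subsingleton.elim b μ) hb
        · intro h
          rw [DFinsupp.notMem_support_iff.1 h]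
          simp
      exact Subtype.ext hd'
    · by_cases hgt : ∃ γ, μ < γ
      · obtain ⟨γ, hγ⟩ := hgt
        exact hmin γ d (hd ▸ zero_mem _) μ hγ
      · -- a maximal index: all others lie below
        have hothers : ∀ η, η ≠ μ → d η = 0 := fun η hη =>
          hmin μ d (hd ▸ zero_mem _) η (lt_of_le_of_ne (not_lt.1 fun h => hgt ⟨η, h⟩) hη)
        refine Subtype.ext ?_
        show ((d μ : G μ) : M) = 0
        rw [← hd]
        conv_rhs => rw [← DirectSum.sum_support_of d]
        rw [map_sum, Finset.sum_eq_single μ]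
        · exact (DirectSum.coeLinearMap_of G μ _).symm
        · intro b _ hb
          rw [hothers b hb]
          simp
        · intro h
          rw [DFinsupp.notMem_support_iff.1 h]
          simp
  refine ⟨G, ⟨hinj, hsurj⟩, fun γ => le_antisymm (fun x hx => ?_) (iSup₂_le fun η hη => (hGF η).trans (hF hη))⟩
  obtain ⟨d, rfl⟩ := hsurj x
  rw [← DirectSum.sum_support_of d, map_sum]
  refine sum_mem fun η _ => ?_
  rw [DirectSum.coeLinearMap_of]
  rcases lt_or_ge η γ with h | h
  · rw [hmin γ d hx η h]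
    simp
  · exact le_biSup G (Set.mem_Ici.2 h) (d η).2

theorem fibres_of_split [Module.Finite R M] [Module.Projective R M] (F : Γ → Submodule R M)
    (Fp : Γ → Submodule R M) (hFp : ∀ γ, Fp γ = ⨆ η ∈ Set.Ioi γ, F η)
    (G : Γ → Submodule R M) (hG : DirectSum.IsInternal G) (hGF : ∀ γ, F γ = ⨆ η ∈ Set.Ici γ, G η) :
    (∀ γ, Module.Finite R (↥(F γ) ⧸ Submodule.comap (F γ).subtype (Fp γ)) ∧
      Module.Projective R (↥(F γ) ⧸ Submodule.comap (F γ).subtype (Fp γ))) ∧
    ∀ p : PrimeSpectrum R, Module.finrank p.asIdeal.ResidueField (p.asIdeal.ResidueField ⊗[R] M) =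
      ∑ᶠ γ, jump (fun γ => img p.asIdeal.ResidueField (F γ)) γ := by
  classical
  let e := LinearEquiv.ofBijective (DirectSum.coeLinearMap G) hG
  let π : ∀ γ, M →ₗ[R] G γ := fun γ => DirectSum.component R Γ (fun η => G η) γ ∘ₗ e.symm.toLinearMap
  have hπ_self : ∀ γ (x : G γ), π γ (x : M) = x := fun γ x => by
    have he : e.symm (x : M) = DirectSum.lof R Γ (fun η => G η) γ x := by
      rw [LinearEquiv.symm_apply_eq]
      exact (DirectSum.coeLinearMap_lof G γ x).symm
    simp only [π, LinearMap.comp_apply, LinearEquiv.coe_coe, he, DirectSum.component.lof_self]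
  have hπ_ne : ∀ γ η (x : G η), η ≠ γ → π γ (x : M) = 0 := fun γ η x hne => by
    have he : e.symm (x : M) = DirectSum.lof R Γ (fun η => G η) η x := by
      rw [LinearEquiv.symm_apply_eq]
      exact (DirectSum.coeLinearMap_lof G η x).symm
    simp only [π, LinearMap.comp_apply, LinearEquiv.coe_coe, he]
    rw [DirectSum.component.of]
    simp [hne]
  have hFp' : ∀ γ, Fp γ = ⨆ η ∈ Set.Ioi γ, G η := fun γ => by
    rw [hFp]
    refine le_antisymm (iSup₂_le fun η hη => ?_) (iSup₂_le fun η hη => ?_)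
    · rw [hGF]
      exact iSup₂_le fun μ hμ => le_biSup G (Set.mem_Ioi.2 (lt_of_lt_of_le hη hμ))
    · refine le_trans ?_ (le_biSup F hη)
      rw [hGF]
      exact le_biSup G (Set.mem_Ici.2 le_rfl)
  have hFsup : ∀ γ, F γ = G γ ⊔ Fp γ := fun γ => by
    rw [hGF, hFp']
    refine le_antisymm (iSup₂_le fun η hη => ?_)
      (sup_le (le_biSup G (Set.mem_Ici.2 le_rfl)) (biSup_mono fun η hη => le_of_lt hη))
    rcases eq_or_lt_of_le (Set.mem_Ici.1 hη) with rfl | h
    · exact le_sup_left
    · exact le_sup_of_le_right (le_biSup G (Set.mem_Ioi.2 h))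
  have hπFp : ∀ γ, Fp γ ≤ LinearMap.ker (π γ) := fun γ => by
    rw [hFp']
    exact iSup₂_le fun η hη x hx => hπ_ne γ η ⟨x, hx⟩ (ne_of_gt hη)
  have hpG : ∀ γ, Module.Projective R (G γ) := fun γ =>
    Module.Projective.of_split (G γ).subtype (π γ) (LinearMap.ext fun x => hπ_self γ x)
  have hfG : ∀ γ, Module.Finite R (G γ) := fun γ =>
    Module.Finite.of_surjective (π γ) fun x => ⟨x, hπ_self γ x⟩
  refine ⟨fun γ => ?_, fun p => ?_⟩
  · let f : ↥(F γ) →ₗ[R] G γ := π γ ∘ₗ (F γ).subtype
    have hf : Function.Surjective f := fun x =>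
      ⟨⟨x, (hFsup γ).ge (Submodule.mem_sup_left x.2)⟩, hπ_self γ x⟩
    have hk : LinearMap.ker f = Submodule.comap (F γ).subtype (Fp γ) := by
      refine le_antisymm (fun x hx => ?_) fun x hx => hπFp γ hx
      obtain ⟨g, hg, h, hh, hx'⟩ := Submodule.mem_sup.1 ((hFsup γ).le x.2)
      have h0 : π γ (x : M) = ⟨g, hg⟩ := by
        rw [← hx', map_add, LinearMap.mem_ker.1 (hπFp γ hh), add_zero]
        exact hπ_self γ ⟨g, hg⟩
      have hg0 : g = 0 := congrArg Subtype.val (h0.symm.trans hx)
      show (x : M) ∈ Fp γ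
      rw [← hx', hg0, zero_add]
      exact hh
    let q := (Submodule.quotEquivOfEq _ _ hk).symm ≪≫ₗ f.quotKerEquivOfSurjective hf
    haveI := hpG γ
    haveI := hfG γ
    exact ⟨Module.Finite.equiv q.symm, Module.Projective.of_equiv q.symm⟩
  · let K := p.asIdeal.ResidueField
    haveI : FiniteDimensional K (K ⊗[R] M) := Module.Finite.base_change R K M
    let P : ∀ γ, K ⊗[R] M →ₗ[K] K ⊗[R] M := fun γ => ((G γ).subtype ∘ₗ π γ).baseChange K
    have hP_self : ∀ γ, ∀ z ∈ img K (G γ), P γ z = z := fun γ => by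
      have : img K (G γ) ≤ LinearMap.eqLocus (P γ) LinearMap.id := img_le K fun x hx => by
        show P γ ((1 : K) ⊗ₜ[R] x) = (1 : K) ⊗ₜ[R] x
        simp only [P, LinearMap.baseChange_tmul, LinearMap.comp_apply, Submodule.subtype_apply]
        rw [hπ_self γ ⟨x, hx⟩]
      exact fun z hz => this hz
    have hP_ne : ∀ γ, img K (Fp γ) ≤ LinearMap.ker (P γ) := fun γ => img_le K fun x hx => by
      show P γ ((1 : K) ⊗ₜ[R] x) = 0
      simp only [P, LinearMap.baseChange_tmul, LinearMap.comp_apply, LinearMap.mem_ker.1 (hπFp γ hx), map_zero,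
        TensorProduct.tmul_zero]
    have hjump : ∀ γ, jump (fun γ => img K (F γ)) γ = Module.finrank K ↥(img K (G γ)) := fun γ => by
      have h1 : (⨆ η ∈ Set.Ioi γ, img K (F η)) = img K (Fp γ) := by rw [hFp, img_biSup]
      have h2 : img K (F γ) = img K (G γ) ⊔ img K (Fp γ) := by
        refine le_antisymm (img_le K fun x hx => ?_)
          (sup_le (img_mono K ((hFsup γ).ge.trans' le_sup_left)) (img_mono K ((hFsup γ).ge.trans' le_sup_right)))
        obtain ⟨g, hg, h, hh, rfl⟩ := Submodule.mem_sup.1 ((hFsup γ).le hx)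
        rw [TensorProduct.tmul_add]
        exact add_mem (Submodule.mem_sup_left (tmul_mem_img K hg 1)) (Submodule.mem_sup_right (tmul_mem_img K hh 1))
      have h3 : img K (G γ) ⊓ img K (Fp γ) = ⊥ := le_bot_iff.1 fun z hz => by
        show z = 0
        rw [← hP_self γ z hz.1]
        exact hP_ne γ hz.2
      have h4 := Submodule.finrank_sup_add_finrank_inf_eq (img K (G γ)) (img K (Fp γ))
      rw [h3, finrank_bot, add_zero, ← h2] at h4
      have h5 : img K (Fp γ) ≤ img K (F γ) := h2.ge.trans' le_sup_right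
      have h6 := Submodule.finrank_mono h5
      show Module.finrank K ↥(img K (F γ)) - Module.finrank K ↥(⨆ η ∈ Set.Ioi γ, img K (F η)) = _
      rw [h1]
      omega
    have hdisj : ∀ γ (S : Finset Γ), γ ∉ S → Disjoint (img K (G γ)) (S.sup fun η => img K (G η)) := by
      intro γ S hγ
      rw [disjoint_iff, ← le_bot_iff]
      intro z hz
      have : (S.sup fun η => img K (G η)) ≤ LinearMap.ker (P γ) := Finset.sup_le fun η hη => img_le K fun x hx => by
        show P γ ((1 : K) ⊗ₜ[R] x) = 0
        simp only [P, LinearMap.baseChange_tmul, LinearMap.comp_apply]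
        rw [hπ_ne γ η ⟨x, hx⟩ (fun h => hγ (h ▸ hη))]
        simp
      show z = 0
      rw [← hP_self γ z hz.1]
      exact this hz.2
    have hsumS : ∀ S : Finset Γ, Module.finrank K ↥(S.sup fun η => img K (G η)) =
        ∑ η ∈ S, Module.finrank K ↥(img K (G η)) := by
      intro S
      induction S using Finset.induction with
      | empty => rw [Finset.sup_empty, Finset.sum_empty, finrank_bot]
      | insert a S ha ih =>
        rw [Finset.sup_insert, Finset.sum_insert ha, ← ih]
        have h4 := Submodule.finrank_sup_add_finrank_inf_eq (img K (G a)) (S.sup fun η => img K (G η))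
        rw [(hdisj a S ha).eq_bot, finrank_bot, add_zero] at h4
        exact h4
    obtain ⟨gens, hgens⟩ := Module.Finite.fg_top (R := R) (M := M)
    let S : Finset Γ := gens.biUnion fun x => DFinsupp.support (e.symm x)
    have hStop : (S.sup G) = ⊤ := by
      rw [eq_top_iff, ← hgens, Submodule.span_le]
      intro x hx
      have hx' : x = e (∑ η ∈ DFinsupp.support (e.symm x), DirectSum.of (fun η => G η) η (e.symm x η)) := by
        rw [DirectSum.sum_support_of, LinearEquiv.apply_symm_apply]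
      rw [SetLike.mem_coe, hx', map_sum]
      refine sum_mem fun η hη => ?_
      refine Finset.le_sup (f := G) (Finset.mem_biUnion.2 ⟨x, hx, hη⟩) ?_
      exact (DirectSum.coeLinearMap_of G η (e.symm x η)).symm ▸ (e.symm x η).2
    have hfull : (S.sup fun η => img K (G η)) = ⊤ := by
      rw [eq_top_iff, ← img_top (R := R) (M := M) K, ← hStop, Finset.sup_eq_iSup]
      refine le_trans (le_of_eq (img_biSup K (↑S : Set Γ) G)) ?_
      rw [Finset.sup_eq_iSup]
      exact le_rfl
    have hzero : ∀ γ, γ ∉ S → Module.finrank K ↥(img K (G γ)) = 0 := fun γ hγ => by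
      have := hdisj γ S hγ
      rw [hfull, disjoint_top] at this
      rw [this, finrank_bot]
    rw [finsum_congr hjump, finsum_eq_sum_of_support_subset _ (s := S) (fun γ hγ => by
      by_contra h
      exact hγ (hzero γ h)), ← hsumS, hfull, finrank_top]

end Groth.L12.FiltSplit
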